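import Groth.Agent.AlgStDVR.Points

/-!
# The chart of a base change to a scheme induced by a chart over an affine base
-/

set_option autoImplicit false
set_option backward.isDefEq.respectTransparency false
set_option backward.isDefEq.respectTransparency.types false

universe u

open CategoryTheory CategoryTheory.Limits AlgebraicGeometry Opposite Topology
open Groth.StkBase Groth.AlgStBasic

noncomputable section

namespace Groth.AlgStDVR

variable {S : Scheme.{u}} {V T W₀ : Over S} (a : T ⟶ V) (α₀ : W₀ ⟶ V)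

/-- The scheme `T ×_V W₀`. -/
def top : Over S := Over.mk (pullback.fst a.left α₀.left ≫ T.hom)

/-- The first projection of `T ×_V W₀`. -/
def pr : top a α₀ ⟶ T := Over.homMk (pullback.fst a.left α₀.left) rfl

/-- The second projection of `T ×_V W₀`. -/
def prW : top a α₀ ⟶ W₀ := Over.homMk (pullback.snd a.left α₀.left) (by
  show pullback.snd a.left α₀.left ≫ W₀.hom = pullback.fst a.left α₀.left ≫ T.hom
  rw [← Over.w α₀, ← pullback.condition_assoc, Over.w a])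

theorem top_condition : pr a α₀ ≫ a = prW a α₀ ≫ α₀ :=
  Over.OverMorphism.ext pullback.condition

/-- Maps into `T ×_V W₀`. -/
def topLift {X : Over S} (b : X ⟶ T) (v : X ⟶ W₀) (h : b ≫ a = v ≫ α₀) : X ⟶ top a α₀ :=
  Over.homMk (pullback.lift b.left v.left (congrArg CommaMorphism.left h)) (by
    show pullback.lift b.left v.left _ ≫ pullback.fst a.left α₀.left ≫ T.hom = X.hom
    rw [pullback.lift_fst_assoc, Over.w b])

theorem topLift_pr {X : Over S} (b : X ⟶ T) (v : X ⟶ W₀) (h : b ≫ a = v ≫ α₀) :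
    topLift a α₀ b v h ≫ pr a α₀ = b :=
  Over.OverMorphism.ext (pullback.lift_fst _ _ _)

theorem topLift_prW {X : Over S} (b : X ⟶ T) (v : X ⟶ W₀) (h : b ≫ a = v ≫ α₀) :
    topLift a α₀ b v h ≫ prW a α₀ = v :=
  Over.OverMorphism.ext (pullback.lift_snd _ _ _)

theorem top_hom_ext {X : Over S} {f g : X ⟶ top a α₀} (h₁ : f ≫ pr a α₀ = g ≫ pr a α₀)
    (h₂ : f ≫ prW a α₀ = g ≫ prW a α₀) : f = g :=
  Over.OverMorphism.ext
    (pullback.hom_ext (congrArg CommaMorphism.left h₁) (congrArg CommaMorphism.left h₂))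

section Chart

variable {𝒬 : AlgSt.Cat S} {q : 𝒬 ⥤ᵇ FibCat.overCat V} {w₀ : FibCat.overCat W₀ ⥤ᵇ 𝒬}
  (e₀ : BasedFunctor.comp w₀ q ≅ AlgSt.overMap α₀)

/-- The chart `T ×_V W₀ ⟶ T ×_V 𝒬`. -/
def chart : FibCat.overCat (top a α₀) ⥤ᵇ FibCat.fp (AlgSt.overMap a) q :=
  FibCat.fpLift (AlgSt.overMap (pr a α₀)) (BasedFunctor.comp (AlgSt.overMap (prW a α₀)) w₀)
    (((overMapComp (pr a α₀) a).trans (overMapCongr (top_condition a α₀))).trans
      ((overMapComp (prW a α₀) α₀).symm.trans (whiskerLeftIso (AlgSt.overMap (prW a α₀)) e₀.symm)))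

/-- The chart and the projection to `W₀`. -/
def chartPair :
    FibCat.overCat (top a α₀) ⥤ᵇ FibCat.fp (FibCat.fpSnd (AlgSt.overMap a) q) w₀ :=
  FibCat.fpLift (chart a α₀ e₀) (AlgSt.overMap (prW a α₀)) (Iso.refl _)

theorem isEquivOver_chartPair :
    FibCat.IsEquivOver (chartPair a α₀ e₀) := by
  refine isEquivOver_of_fullyFaithful _ ⟨fun {x y} φ => ?_⟩ ⟨fun {x y} g g' h => ?_⟩ fun y => ?_
  · have h₁ : φ.hom.fst.hom.fst.left ≫ y.hom ≫ pr a α₀ = x.hom ≫ pr a α₀ :=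
      Over.w φ.hom.fst.hom.fst
    have h₂ : φ.hom.snd.left ≫ y.hom ≫ prW a α₀ = x.hom ≫ prW a α₀ := Over.w φ.hom.snd
    have hl : φ.hom.snd.left = φ.hom.fst.hom.fst.left := by
      have h := fp_map_snd φ
      simp only [eqToHom_refl, Category.id_comp, Category.comp_id] at h
      exact h
    let g : x ⟶ y := Over.homMk φ.hom.fst.hom.fst.left (top_hom_ext a α₀
      ((Category.assoc _ _ _).trans h₁)
      ((Category.assoc _ _ _).trans (hl ▸ h₂)))
    refine ⟨g, ?_⟩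
    have hs : (AlgSt.overMap (prW a α₀)).map g = φ.hom.snd := Over.OverMorphism.ext hl.symm
    refine fp_hom_ext (fp_hom_ext (Over.OverMorphism.ext rfl) ?_) hs
    have h := φ.hom.w
    show w₀.map ((AlgSt.overMap (prW a α₀)).map g) = φ.hom.fst.hom.snd
    rw [hs]
    have h' := h.symm
    simp [chartPair, isoApp] at h'
    exact (Category.id_comp _).symm.trans (h'.trans (Category.comp_id _))
  · exact Over.OverMorphism.ext (congrArg (fun t => t.hom.fst.hom.fst.left) h)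
  · have hX : y.obj.snd.left = y.obj.fst.obj.fst.left := fp_p_snd y
    let v' : y.obj.fst.obj.fst.left ⟶ W₀ := eqToHom hX.symm ≫ y.obj.snd.hom
    let m : (AlgSt.overMap a).obj y.obj.fst.obj.fst ⟶ (AlgSt.overMap α₀).obj y.obj.snd :=
      y.obj.fst.obj.iso.hom ≫ q.map y.obj.iso.hom ≫ (isoApp e₀ y.obj.snd).hom
    have hm : IsVert (FibCat.overCat V).p m :=
      (fp_isVert _).comp ((isVert_map (fp_isVert y)).comp (isVert_isoApp _ _))
    have hc : y.obj.fst.obj.fst.hom ≫ a = v' ≫ α₀ := by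
      have h : m.left ≫ y.obj.snd.hom ≫ α₀ = y.obj.fst.obj.fst.hom ≫ a := Over.w m
      have hl : m.left = eqToHom hX.symm := hm.map_eq
      rw [← h, hl, Category.assoc]
    let x : (FibCat.overCat (top a α₀)).obj :=
      Over.mk (topLift a α₀ y.obj.fst.obj.fst.hom v' hc)
    let i₁ : (AlgSt.overMap (pr a α₀)).obj x ≅ y.obj.fst.obj.fst :=
      Over.isoMk (Iso.refl _) ((Category.id_comp _).trans (topLift_pr a α₀ _ _ hc).symm)
    let i₂ : (AlgSt.overMap (prW a α₀)).obj x ≅ y.obj.snd :=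
      Over.isoMk (eqToIso hX.symm) (topLift_prW a α₀ _ _ hc).symm
    have hi₂ : IsVert (FibCat.overCat W₀).p i₂.hom := ⟨hX.symm, rfl⟩
    have hi₁ : IsVert (FibCat.overCat T).p i₁.hom := ⟨rfl, rfl⟩
    let j : w₀.obj ((AlgSt.overMap (prW a α₀)).obj x) ≅ y.obj.fst.obj.snd :=
      w₀.toFunctor.mapIso i₂ ≪≫ y.obj.iso.symm
    have hj : IsVert 𝒬.p j.hom :=
      (isVert_map hi₂).comp (IsVert.inv (φ := y.obj.iso) (fp_isVert y))
    let I : (chart a α₀ e₀).obj x ≅ y.obj.fst := fpObjIso i₁ j (overCat_ext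
      ((isVert_map hi₁).comp (fp_isVert _)) ((fp_isVert _).comp (isVert_map hj)))
    refine ⟨x, fpObjIso I i₂ ?_, hi₁⟩
    show (w₀.map i₂.hom ≫ y.obj.iso.inv) ≫ y.obj.iso.hom = 𝟙 _ ≫ w₀.map i₂.hom
    rw [Category.assoc, Iso.inv_hom_id, Category.comp_id]
    exact (Category.id_comp _).symm

theorem repWith_chart {P : MorphismProperty (AlgSp.Sp S)}
    (h : AlgSt.RepByAlgSpWith P w₀) : AlgSt.RepByAlgSpWith P (chart a α₀ e₀) :=
  (repWith_precomp_equiv (isEquivOver_chartPair a α₀ e₀) _).2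
    (repWith_fpFst w₀ (FibCat.fpSnd (AlgSt.overMap a) q) h)

include e₀ in
theorem hasAtlas_fp_overMap
    (hw : AlgSt.RepByAlgSpWith (AlgSp.LocP @Smooth) w₀)
    (hws : AlgSt.RepByAlgSpWith AlgSp.IsSurjectiveMor w₀) :
    AlgSt.HasAtlas (AlgSp.LocP @Smooth) (FibCat.fp (AlgSt.overMap a) q) :=
  ⟨top a α₀, chart a α₀ e₀, repWith_chart a α₀ e₀ hw, repWith_chart a α₀ e₀ hws⟩

theorem toPt_chart (v : ↥(top a α₀).left) :
    toPt (FibCat.fpFst (AlgSt.overMap a) q) (AlgSt.Points.ofChart (chart a α₀ e₀) v) =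
      (pr a α₀).left v :=
  toPt_ofChart (Iso.refl _) v

theorem surjective_chart (hQ : FibCat.IsFibGrpd 𝒬.p)
    (hws : AlgSt.RepByAlgSpWith AlgSp.IsSurjectiveMor w₀) :
    Function.Surjective (AlgSt.Points.ofChart (chart a α₀ e₀)) :=
  surjective_ofChart (isFibGrpd_fp (isFibGrpd_overCat T) hQ (isFibGrpd_overCat V))
    (repWith_chart a α₀ e₀ hws)

theorem image_toPt (hQ : FibCat.IsFibGrpd 𝒬.p)
    (hws : AlgSt.RepByAlgSpWith AlgSp.IsSurjectiveMor w₀)
    (D : Set (AlgSt.Points (FibCat.fp (AlgSt.overMap a) q))) :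
    toPt (FibCat.fpFst (AlgSt.overMap a) q) '' D =
      (pr a α₀).left '' (AlgSt.Points.ofChart (chart a α₀ e₀) ⁻¹' D) := by
  ext t
  constructor
  · rintro ⟨p, hp, rfl⟩
    obtain ⟨v, rfl⟩ := surjective_chart a α₀ e₀ hQ hws p
    exact ⟨v, hp, (toPt_chart a α₀ e₀ v).symm⟩
  · rintro ⟨v, hv, rfl⟩
    exact ⟨_, hv, toPt_chart a α₀ e₀ v⟩

variable {T₁ : Over S} (a₁ : T₁ ⟶ V) (c : T ⟶ T₁) (hc : c ≫ a₁ = a)

/-- The map `T ×_V 𝒬 ⟶ T₁ ×_V 𝒬`. -/
def changeBase (q : 𝒬 ⥤ᵇ FibCat.overCat V) :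
    FibCat.fp (AlgSt.overMap a) q ⥤ᵇ FibCat.fp (AlgSt.overMap a₁) q :=
  FibCat.fpLift (BasedFunctor.comp (FibCat.fpFst _ _) (AlgSt.overMap c)) (FibCat.fpSnd _ _)
    ((whiskerLeftIso (FibCat.fpFst (AlgSt.overMap a) q)
      ((overMapComp c a₁).trans (overMapCongr hc))).trans (FibCat.fpIso _ _))

theorem toPt_changeBase (p : AlgSt.Points (FibCat.fp (AlgSt.overMap a) q)) :
    toPt (FibCat.fpFst (AlgSt.overMap a₁) q) (AlgSt.Points.map (changeBase a a₁ c hc q) p) =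
      c.left (toPt (FibCat.fpFst (AlgSt.overMap a) q) p) := by
  rw [toPt_map]
  show toPt (BasedFunctor.comp (FibCat.fpFst (AlgSt.overMap a) q) (AlgSt.overMap c)) p = _
  rw [toPt, map_comp, map_eq_ofChart (FibCat.fpFst (AlgSt.overMap a) q) p, ← ofChart_eq_map]
  show ptToScheme T₁ (AlgSt.Points.ofChart (AlgSt.overMap c) _) = _
  exact (congrArg (ptToScheme T₁) (ofChart_overMap c (BasedFunctor.id _) _)).trans
    (ptToScheme_ofChart_id _)

/-- The map `T ×_V W₀ ⟶ T₁ ×_V W₀`. -/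
def topMap : top a α₀ ⟶ top a₁ α₀ :=
  topLift a₁ α₀ (pr a α₀ ≫ c) (prW a α₀) (by rw [Category.assoc, hc, top_condition])

/-- Points of `T ×_V 𝒬` lift to points of `T ×_V W₀` over prescribed points of `T₁ ×_V W₀`. -/
theorem exists_chart_lift (hQ : FibCat.IsFibGrpd 𝒬.p)
    (p : AlgSt.Points (FibCat.fp (AlgSt.overMap a) q)) (v₁ : ↥(top a₁ α₀).left)
    (h : AlgSt.Points.map (changeBase a a₁ c hc q) p =
      AlgSt.Points.ofChart (chart a₁ α₀ e₀) v₁) :
    ∃ v : ↥(top a α₀).left, (topMap a α₀ a₁ c hc).left v = v₁ ∧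
      AlgSt.Points.ofChart (chart a α₀ e₀) v = p := by
  have hP := isFibGrpd_fp (F := AlgSt.overMap a) (G := q) (isFibGrpd_overCat T) hQ
    (isFibGrpd_overCat V)
  have hP₁ := isFibGrpd_fp (F := AlgSt.overMap a₁) (G := q) (isFibGrpd_overCat T₁) hQ
    (isFibGrpd_overCat V)
  obtain ⟨z, hz₁, hz₂⟩ := exists_points_fp (isFibGrpd_overCat (top a₁ α₀)) hP₁ hP
    (chart a₁ α₀ e₀) (changeBase a a₁ c hc q) p (AlgSt.Points.ofChart (BasedFunctor.id _) v₁)
    (by rw [← ofChart_eq_map]; exact h)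
  obtain ⟨K, -, k, t, rfl, -⟩ := exists_chart_through
    (isFibGrpd_fp hP (isFibGrpd_overCat (top a₁ α₀)) hP₁) z
  let k' := BasedFunctor.comp k (FibCat.fpFst (changeBase a a₁ c hc q) (chart a₁ α₀ e₀))
  obtain ⟨b, ⟨εb⟩⟩ :=
    exists_iso_overMap (BasedFunctor.comp k' (FibCat.fpFst (AlgSt.overMap a) q))
  obtain ⟨s, ⟨εs⟩⟩ := exists_iso_overMap
    (BasedFunctor.comp k (FibCat.fpSnd (changeBase a a₁ c hc q) (chart a₁ α₀ e₀)))
  let ε := whiskerLeftIso k (FibCat.fpIso (changeBase a a₁ c hc q) (chart a₁ α₀ e₀))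
  have hbs : b ≫ c = s ≫ pr a₁ α₀ := eq_of_overMap_iso
    ((overMapComp b c).symm.trans ((whiskerRightIso εb.symm (AlgSt.overMap c)).trans
      ((whiskerRightIso ε (FibCat.fpFst (AlgSt.overMap a₁) q)).trans
        ((whiskerRightIso εs (AlgSt.overMap (pr a₁ α₀))).trans (overMapComp _ _)))))
  let l : K ⟶ top a α₀ := topLift a α₀ b (s ≫ prW a₁ α₀) (by
    rw [Category.assoc, ← top_condition, ← reassoc_of% hbs, hc])
  have hlm : l ≫ topMap a α₀ a₁ c hc = s := top_hom_ext a₁ α₀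
    (by rw [topMap, Category.assoc, topLift_pr, ← Category.assoc, topLift_pr, hbs])
    (by rw [topMap, Category.assoc, topLift_prW, topLift_prW])
  have i : BasedFunctor.comp (AlgSt.overMap l) (chart a α₀ e₀) ≅ k' :=
    fpIsoMkOver ((overMapComp l (pr a α₀)).trans
        ((overMapCongr (topLift_pr a α₀ _ _ _)).trans εb.symm))
      ((whiskerRightIso ((overMapComp l (prW a α₀)).trans
          ((overMapCongr (topLift_prW a α₀ _ _ _)).trans (overMapComp s (prW a₁ α₀)).symm)) w₀).trans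
        ((whiskerRightIso εs.symm
            (BasedFunctor.comp (AlgSt.overMap (prW a₁ α₀)) w₀)).trans
          (whiskerRightIso ε.symm (FibCat.fpSnd (AlgSt.overMap a₁) q))))
  refine ⟨l.left t, ?_, ?_⟩
  · apply (bijective_ofChart_id (T := top a₁ α₀)).1
    rw [← hz₂, ← ofChart_comp, ofChart_eq_of_iso εs, ← hlm]
    exact (ofChart_overMap (l ≫ topMap a α₀ a₁ c hc) (BasedFunctor.id _) t).symm
  · rw [← ofChart_overMap, ofChart_eq_of_iso i, ofChart_comp, hz₁]

end Chart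

end Groth.AlgStDVR
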