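import Groth.Agent.AlgStDVR.Descend
import Groth.Agent.AlgStBasic.StCover
import Groth.Agent.Limits.DVRPoints

/-!
# Universal closedness of a quasi-compact morphism of algebraic stacks from liftings at discrete
valuation rings
-/

set_option autoImplicit false
set_option backward.isDefEq.respectTransparency false
set_option backward.isDefEq.respectTransparency.types false

universe u

open CategoryTheory CategoryTheory.Limits AlgebraicGeometry Opposite Topology
open Groth.StkBase Groth.AlgStBasic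

noncomputable section

namespace Groth.AlgStDVR

variable {S : Scheme.{u}} {𝒳 𝒴 : AlgSt.Cat S}

/-- Liftings at discrete valuation rings, after an extension. -/
def LiftsDVR (f : 𝒳 ⥤ᵇ 𝒴) : Prop :=
  ∀ (R : Type u) [CommRing R] [IsDomain R] [IsDiscreteValuationRing R]
        (sR : Spec (CommRingCat.of R) ⟶ S)
        (a : FibCat.overCat (Over.mk (Spec.map (CommRingCat.ofHom (algebraMap R (FractionRing R))) ≫ sR)) ⥤ᵇ 𝒳)
        (b : FibCat.overCat (Over.mk sR) ⥤ᵇ 𝒴)
        (α : BasedFunctor.comp a f ≅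
          BasedFunctor.comp (AlgSt.overMap (Over.homMk (Spec.map (CommRingCat.ofHom (algebraMap R (FractionRing R)))) rfl :
            Over.mk (Spec.map (CommRingCat.ofHom (algebraMap R (FractionRing R))) ≫ sR) ⟶ Over.mk sR)) b),
        ∃ (R' : Type u) (_ : CommRing R') (_ : IsDomain R') (_ : IsDiscreteValuationRing R') (φ : R →+* R')
          (_ : Function.Injective φ) (_ : IsLocalHom φ)
          (gψ : (Over.mk (Spec.map (CommRingCat.ofHom (algebraMap R' (FractionRing R'))) ≫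
                  Spec.map (CommRingCat.ofHom φ) ≫ sR) : Over S) ⟶
                Over.mk (Spec.map (CommRingCat.ofHom (algebraMap R (FractionRing R))) ≫ sR))
          (c : FibCat.overCat (Over.mk (Spec.map (CommRingCat.ofHom φ) ≫ sR)) ⥤ᵇ FibCat.fp f b),
          gψ ≫ (Over.homMk (Spec.map (CommRingCat.ofHom (algebraMap R (FractionRing R)))) rfl :
              Over.mk (Spec.map (CommRingCat.ofHom (algebraMap R (FractionRing R))) ≫ sR) ⟶ Over.mk sR) =
            (Over.homMk (Spec.map (CommRingCat.ofHom (algebraMap R' (FractionRing R')))) rfl :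
                Over.mk (Spec.map (CommRingCat.ofHom (algebraMap R' (FractionRing R'))) ≫
                  Spec.map (CommRingCat.ofHom φ) ≫ sR) ⟶ Over.mk (Spec.map (CommRingCat.ofHom φ) ≫ sR)) ≫
              (Over.homMk (Spec.map (CommRingCat.ofHom φ)) rfl :
                Over.mk (Spec.map (CommRingCat.ofHom φ) ≫ sR) ⟶ Over.mk sR) ∧
          Nonempty (BasedFunctor.comp c (FibCat.fpSnd f b) ≅
            AlgSt.overMap (Over.homMk (Spec.map (CommRingCat.ofHom φ)) rfl :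
              Over.mk (Spec.map (CommRingCat.ofHom φ) ≫ sR) ⟶ Over.mk sR)) ∧
          Nonempty (BasedFunctor.comp
              (AlgSt.overMap (Over.homMk (Spec.map (CommRingCat.ofHom (algebraMap R' (FractionRing R')))) rfl :
                Over.mk (Spec.map (CommRingCat.ofHom (algebraMap R' (FractionRing R'))) ≫
                  Spec.map (CommRingCat.ofHom φ) ≫ sR) ⟶ Over.mk (Spec.map (CommRingCat.ofHom φ) ≫ sR))) c ≅
            BasedFunctor.comp (AlgSt.overMap gψ)
              (FibCat.fpLift a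
                (AlgSt.overMap (Over.homMk (Spec.map (CommRingCat.ofHom (algebraMap R (FractionRing R)))) rfl :
                  Over.mk (Spec.map (CommRingCat.ofHom (algebraMap R (FractionRing R))) ≫ sR) ⟶ Over.mk sR)) α))

/-- The base change of a chart of the target is charted by an affine scheme locally of finite type. -/
theorem exists_affine_chart {f : 𝒳 ⥤ᵇ 𝒴} (hX : FibCat.IsFibGrpd 𝒳.p) (hY : FibCat.IsFibGrpd 𝒴.p)
    (hqc : AlgSt.IsQuasiCompactMor Scheme.etalePrecoverage f)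
    (hft : AlgSt.LocQ (AlgSp.LocP @LocallyOfFiniteType) f) (V : Over S) [IsAffine V.left]
    (yV : FibCat.overCat V ⥤ᵇ 𝒴) :
    ∃ (W₀ : Over S) (_ : IsAffine W₀.left) (w₀ : FibCat.overCat W₀ ⥤ᵇ FibCat.fp yV f)
      (α₀ : W₀ ⟶ V) (_ : BasedFunctor.comp w₀ (FibCat.fpFst yV f) ≅ AlgSt.overMap α₀),
      AlgSt.RepByAlgSpWith (AlgSp.LocP @Smooth) w₀ ∧
        AlgSt.RepByAlgSpWith AlgSp.IsSurjectiveMor w₀ ∧ LocallyOfFiniteType α₀.left := by
  obtain ⟨W₀, w₀, hW, hw, hws⟩ := hqc _ (isAlgStack_etale_overCat V) isQuasiCompact_overCat yV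
  obtain ⟨α₀, ⟨e₀⟩⟩ := exists_iso_overMap (BasedFunctor.comp w₀ (FibCat.fpFst yV f))
  refine ⟨W₀, hW, w₀, α₀, e₀, hw, hws, ?_⟩
  let y' : AlgSt.ofSp ((AlgSp.ofScheme S).obj V).obj ⥤ᵇ 𝒴 :=
    BasedFunctor.comp (AlgSt.toOverCat V) yV
  let G : FibCat.fp f yV ⥤ᵇ FibCat.fp f y' := fpPre (BasedFunctor.id 𝒳) (AlgSt.ofOverCat V) f y'
  have hG : FibCat.IsEquivOver G :=
    isEquivOver_fpPre (isEquivOver_id _) (isEquivOver_ofOverCat V) f y'
  let L : AlgSt.ofSp ((AlgSp.ofScheme S).obj W₀).obj ⥤ᵇ FibCat.fp f y' :=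
    BasedFunctor.comp (BasedFunctor.comp (BasedFunctor.comp (AlgSt.toOverCat W₀) w₀) (fpSwap yV f)) G
  have hL : AlgSt.RepByAlgSpWith (AlgSp.LocP @Smooth) L :=
    (repWith_postcomp_equiv _ hG).2 ((repWith_postcomp_equiv _ (isEquivOver_fpSwap yV f)).2
      ((repWith_precomp_equiv (isEquivOver_toOverCat W₀) w₀).2 hw))
  have h := prop_snd_of_locQSp isSmoothLocalST_lft stableBaseChange_locP hX hY (locQSp_of_locQ hft)
    L hL
  have e : mapOf (BasedFunctor.comp L (FibCat.fpSnd f y')) = (AlgSp.yon S).map α₀ := by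
    rw [← spMapOfOver_toOverCat α₀]
    refine (mapOf_congr (G := (AlgSp.yon S).obj V) (Ψ := BasedFunctor.comp
      (BasedFunctor.comp (AlgSt.toOverCat W₀) (AlgSt.overMap α₀)) (AlgSt.ofOverCat V))
      (whiskerRightIso (whiskerLeftIso (AlgSt.toOverCat W₀) e₀) (AlgSt.ofOverCat V))).trans ?_
    exact ObjectProperty.hom_ext _ (spMapOfOver_hom_eq _).symm
  rw [e] at h
  exact left_prop_of_locP_yon h

/-- Images of sets closed on charts are closed over Noetherian affine schemes. -/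
theorem imClosed_noetherian {f : 𝒳 ⥤ᵇ 𝒴} (hX : FibCat.IsFibGrpd 𝒳.p)
    (hY : FibCat.IsFibGrpd 𝒴.p) (hval : LiftsDVR f) {V W₀ T : Over S}
    [IsAffine V.left] [IsAffine W₀.left] [IsAffine T.left] [IsLocallyNoetherian T.left]
    (yV : FibCat.overCat V ⥤ᵇ 𝒴) {w₀ : FibCat.overCat W₀ ⥤ᵇ FibCat.fp yV f} {α₀ : W₀ ⟶ V}
    (e₀ : BasedFunctor.comp w₀ (FibCat.fpFst yV f) ≅ AlgSt.overMap α₀)
    (hws : AlgSt.RepByAlgSpWith AlgSp.IsSurjectiveMor w₀) [LocallyOfFiniteType α₀.left]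
    (a : T ⟶ V) : ImClosed (FibCat.fpFst yV f) a := by
  intro D hD
  have hQ := isFibGrpd_fp (F := yV) (G := f) (isFibGrpd_overCat V) hX hY
  let q := FibCat.fpFst yV f
  let w := chart a α₀ e₀
  have : LocallyOfFiniteType (pr a α₀).left :=
    inferInstanceAs (LocallyOfFiniteType (pullback.fst a.left α₀.left))
  rw [image_toPt a α₀ e₀ hQ hws]
  refine Groth.AlgSp3.isClosed_image_of_stable _ (hD _ w) ?_
  rintro _ z' hz ⟨w₁, hw₁, rfl⟩
  rcases eq_or_ne z' ((pr a α₀).left w₁) with rfl | hne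
  · exact ⟨w₁, hw₁, rfl⟩
  obtain ⟨A, _, _, _, e, _, h, hcl, hgen⟩ :=
    Groth.Limits.exists_dvr_square (pr a α₀).left w₁ z' hz hne
  let sR : Spec (CommRingCat.of A) ⟶ S := h ≫ T.hom
  let hO : Over.mk sR ⟶ T := Over.homMk h rfl
  let TK : Over S :=
    Over.mk (Spec.map (CommRingCat.ofHom (algebraMap A (FractionRing A))) ≫ sR)
  let jK : TK ⟶ Over.mk sR :=
    Over.homMk (Spec.map (CommRingCat.ofHom (algebraMap A (FractionRing A)))) rfl
  let xO : TK ⟶ top a α₀ :=
    Over.homMk (Spec.map e ≫ (top a α₀).left.fromSpecResidueField w₁) (by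
      show (Spec.map e ≫ (top a α₀).left.fromSpecResidueField w₁) ≫ (pr a α₀).left ≫ T.hom =
        Spec.map _ ≫ h ≫ T.hom
      rw [← Category.assoc, ← hgen, Category.assoc])
  have hxO : xO ≫ pr a α₀ = jK ≫ hO := Over.OverMorphism.ext hgen.symm
  let Q : FibCat.overCat TK ⥤ᵇ FibCat.fp yV f :=
    BasedFunctor.comp (AlgSt.overMap xO) (BasedFunctor.comp w (FibCat.fpSnd (AlgSt.overMap a) q))
  let σ : BasedFunctor.comp (AlgSt.overMap jK) (AlgSt.overMap (hO ≫ a)) ≅ BasedFunctor.comp Q q :=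
    (overMapComp jK (hO ≫ a)).trans ((overMapCongr (by rw [reassoc_of% hxO])).trans
      ((overMapComp xO (pr a α₀ ≫ a)).symm.trans
        ((whiskerLeftIso (AlgSt.overMap xO) (overMapComp (pr a α₀) a).symm).trans
          (whiskerLeftIso (AlgSt.overMap xO)
            (whiskerLeftIso w (FibCat.fpIso (AlgSt.overMap a) q))))))
  let a' := BasedFunctor.comp Q (FibCat.fpSnd yV f)
  let b : FibCat.overCat (Over.mk sR) ⥤ᵇ 𝒴 := BasedFunctor.comp (AlgSt.overMap (hO ≫ a)) yV
  let α : BasedFunctor.comp a' f ≅ BasedFunctor.comp (AlgSt.overMap jK) b :=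
    (whiskerLeftIso Q (FibCat.fpIso yV f).symm).trans (whiskerRightIso σ.symm yV)
  obtain ⟨R', _, _, _, φ, -, _, gψ, c, -, ⟨γ₁⟩, ⟨γ₂⟩⟩ := hval A sR a' b α
  let Φ : FibCat.fp f b ⥤ᵇ FibCat.fp yV f :=
    FibCat.fpLift (BasedFunctor.comp (FibCat.fpSnd f b) (AlgSt.overMap (hO ≫ a))) (FibCat.fpFst f b)
      (FibCat.fpIso f b).symm
  let Θ : FibCat.fp f b ⥤ᵇ FibCat.fp (AlgSt.overMap a) q :=
    FibCat.fpLift (BasedFunctor.comp (FibCat.fpSnd f b) (AlgSt.overMap hO)) Φ
      (whiskerLeftIso (FibCat.fpSnd f b) (overMapComp hO a))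
  let key : BasedFunctor.comp (FibCat.fpLift a' (AlgSt.overMap jK) α) Θ ≅
      BasedFunctor.comp (AlgSt.overMap xO) w :=
    fpIsoMkOver ((overMapComp jK hO).trans ((overMapCongr hxO.symm).trans (overMapComp _ _).symm))
      (fpIsoMk σ (Iso.refl a') fun x => by
        change yV.map (isoApp σ x).hom ≫ (Q.obj x).obj.iso.hom =
          (yV.map (isoApp σ x).hom ≫ (Q.obj x).obj.iso.hom) ≫ f.map (𝟙 _)
        exact ((congrArg (_ ≫ ·) (f.toFunctor.map_id _)).trans (Category.comp_id _)).symm)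
  let l := BasedFunctor.comp c Θ
  let TK' : Over S := Over.mk (Spec.map (CommRingCat.ofHom (algebraMap R' (FractionRing R'))) ≫
    Spec.map (CommRingCat.ofHom φ) ≫ sR)
  let pA : Over.mk (Spec.map (CommRingCat.ofHom φ) ≫ sR) ⟶ Over.mk sR :=
    Over.homMk (Spec.map (CommRingCat.ofHom φ)) rfl
  let jj : TK' ⟶ Over.mk (Spec.map (CommRingCat.ofHom φ) ≫ sR) :=
    Over.homMk (Spec.map (CommRingCat.ofHom (algebraMap R' (FractionRing R')))) rfl
  let z₀ : TK'.left := IsLocalRing.closedPoint (FractionRing R')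
  let cl : (Over.mk (Spec.map (CommRingCat.ofHom φ) ≫ sR)).left := IsLocalRing.closedPoint R'
  have hgenmem : jj.left z₀ ∈ AlgSt.Points.ofChart l ⁻¹' D := by
    rw [Set.mem_preimage, ← ofChart_overMap]
    show AlgSt.Points.ofChart
      (BasedFunctor.comp (BasedFunctor.comp (AlgSt.overMap jj) c) Θ) z₀ ∈ D
    rw [ofChart_eq_of_iso ((whiskerRightIso γ₂ Θ).trans (whiskerLeftIso (AlgSt.overMap gψ) key)),
      ofChart_overMap, ofChart_overMap]
    show AlgSt.Points.ofChart w ((top a α₀).left.fromSpecResidueField w₁ _) ∈ D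
    rw [Scheme.fromSpecResidueField_apply]
    exact hw₁
  have hclmem : AlgSt.Points.ofChart l cl ∈ D :=
    (IsLocalRing.specializes_closedPoint (R := R') (jj.left z₀)).mem_closed (hD _ l) hgenmem
  obtain ⟨v, hv⟩ := surjective_chart a α₀ e₀ hQ hws (AlgSt.Points.ofChart l cl)
  refine ⟨v, show AlgSt.Points.ofChart w v ∈ D by rw [hv]; exact hclmem, ?_⟩
  rw [← toPt_chart a α₀ e₀ v, hv,
    toPt_ofChart (π := FibCat.fpFst (AlgSt.overMap a) q) (k := l) (b := pA ≫ hO)
      ((whiskerRightIso γ₁ (AlgSt.overMap hO)).trans (overMapComp _ _)) cl]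
  show h (Spec.map (CommRingCat.ofHom φ) (IsLocalRing.closedPoint R')) = z'
  rw [show Spec.map (CommRingCat.ofHom φ) (IsLocalRing.closedPoint R') = IsLocalRing.closedPoint A
    from (IsLocalRing.isLocalHom_iff_comap_closedPoint φ).1 inferInstance, hcl]

section Reduction

variable {f : 𝒳 ⥤ᵇ 𝒴}

/-- Images of base changes pulled back along a morphism of schemes. -/
theorem preimage_toPt_image (hX : FibCat.IsFibGrpd 𝒳.p) (hY : FibCat.IsFibGrpd 𝒴.p)
    {T T' : Over S} {y : FibCat.overCat T ⥤ᵇ 𝒴} {y' : FibCat.overCat T' ⥤ᵇ 𝒴} (c : T' ⟶ T)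
    (β : BasedFunctor.comp (AlgSt.overMap c) y ≅ y') (D : Set (AlgSt.Points (FibCat.fp y f))) :
    c.left ⁻¹' (toPt (FibCat.fpFst y f) '' D) =
      toPt (FibCat.fpFst y' f) '' (AlgSt.Points.map (chartFun y f (AlgSt.overMap c) β) ⁻¹' D) := by
  rw [← preimage_image_fpFst y f (AlgSt.overMap c) β hX hY (isFibGrpd_overCat T)]
  ext w
  have hw : AlgSt.Points.ofChart (AlgSt.overMap c) w =
      AlgSt.Points.ofChart (BasedFunctor.id _) (c.left w) := ofChart_overMap c (BasedFunctor.id _) w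
  rw [Set.mem_preimage, Set.mem_preimage, hw]
  constructor
  · rintro ⟨p, hp, e⟩
    exact ⟨p, hp, (map_eq_ofChart (FibCat.fpFst y f) p).trans (congrArg _ e)⟩
  · rintro ⟨p, hp, e⟩
    exact ⟨p, hp, by rw [toPt, e, ptToScheme_ofChart_id]⟩

/-- Closed images for charts through an affine Noetherian scheme. -/
theorem isClosed_image_over_affine (hX : FibCat.IsFibGrpd 𝒳.p) (hY : FibCat.IsFibGrpd 𝒴.p)
    (hqc : AlgSt.IsQuasiCompactMor Scheme.etalePrecoverage f)
    (hft : AlgSt.LocQ (AlgSp.LocP @LocallyOfFiniteType) f) (hval : LiftsDVR f)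
    {V T : Over S} [IsAffine V.left] [IsLocallyNoetherian V.left] [IsAffine T.left] (a : T ⟶ V)
    (yV : FibCat.overCat V ⥤ᵇ 𝒴)
    {D : Set (AlgSt.Points (FibCat.fp (BasedFunctor.comp (AlgSt.overMap a) yV) f))}
    (hD : ClosedOnCharts D) :
    IsClosed (toPt (FibCat.fpFst (BasedFunctor.comp (AlgSt.overMap a) yV) f) '' D) := by
  obtain ⟨W₀, _, w₀, α₀, e₀, hw, hws, _⟩ := exists_affine_chart hX hY hqc hft V yV
  have hQ := isFibGrpd_fp (F := yV) (G := f) (isFibGrpd_overCat V) hX hY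
  let Ψ := fpPaste (AlgSt.overMap a) yV f
  rw [← (bijective_map_of_isEquivOver (isEquivOver_fpPaste (AlgSt.overMap a) yV f)).2.image_preimage D,
    Set.image_image]
  rw [Set.image_congr (g := toPt (FibCat.fpFst (AlgSt.overMap a) (FibCat.fpFst yV f)))
    fun p _ => toPt_map Ψ _ p]
  exact imClosed_of_noetherian a α₀ e₀ hQ hw hws
    (fun T₁ _ _ a₁ => imClosed_noetherian hX hY hval yV e₀ hws a₁) _ (hD.preimage Ψ)

/-- Closed images of base changes to schemes. -/
theorem isClosed_image_of_liftsDVR (hX : FibCat.IsFibGrpd 𝒳.p)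
    (h𝒴 : AlgSt.IsAlgStack Scheme.etalePrecoverage 𝒴)
    (hn : AlgSt.SmoothLocally (fun T => IsLocallyNoetherian T) 𝒴)
    (hqc : AlgSt.IsQuasiCompactMor Scheme.etalePrecoverage f)
    (hft : AlgSt.LocQ (AlgSp.LocP @LocallyOfFiniteType) f) (hval : LiftsDVR f) {T : Over S}
    (y : FibCat.overCat T ⥤ᵇ 𝒴) {D : Set (AlgSt.Points (FibCat.fp y f))} (hD : ClosedOnCharts D) :
    IsClosed (toPt (FibCat.fpFst y f) '' D) := by
  have hY := h𝒴.isStack.1
  obtain ⟨U, yU, hyU, hyUs⟩ := h𝒴.atlas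
  have : IsLocallyNoetherian U.left := hn U yU hyU
  obtain ⟨W, c, a, _, hcs, ⟨α⟩⟩ := exists_smooth_cover_lift hyU hyUs y
  have hq : IsQuotientMap c.left :=
    (c.left.isOpenMap).isQuotientMap c.left.continuous hcs.surj
  rw [← isOpen_compl_iff, ← hq.isCoinducing.isOpen_preimage, Set.preimage_compl,
    preimage_toPt_image hX hY c α.symm, isOpen_iff_forall_mem_open]
  intro w hw
  have hD' := hD.preimage (chartFun y f (AlgSt.overMap c) α.symm)
  obtain ⟨V₀, hV₀, hwV, -⟩ := exists_isAffineOpen_mem_and_subset (X := U.left) (x := a.left w)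
    (U := ⊤) trivial
  obtain ⟨O, hO, hwO, hOV⟩ := exists_isAffineOpen_mem_and_subset (X := W.left) (x := w)
    (U := a.left ⁻¹ᵁ V₀) hwV
  let V : Over S := Over.mk (V₀.ι ≫ U.hom)
  have : IsAffine V.left := hV₀
  have : IsLocallyNoetherian V.left := isLocallyNoetherian_of_isOpenImmersion V₀.ι
  let T' : Over S := Over.mk (O.ι ≫ W.hom)
  have : IsAffine T'.left := hO
  let jV : V ⟶ U := Over.homMk V₀.ι rfl
  let jO : T' ⟶ W := Over.homMk O.ι rfl
  let a' : T' ⟶ V := Over.homMk (a.left.resLE V₀ O hOV) (by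
    show a.left.resLE V₀ O hOV ≫ V₀.ι ≫ U.hom = O.ι ≫ W.hom
    rw [← Category.assoc, Scheme.Hom.resLE_comp_ι, Category.assoc, Over.w a])
  have hj : jO ≫ a = a' ≫ jV := Over.OverMorphism.ext (Scheme.Hom.resLE_comp_ι a.left hOV).symm
  let β : BasedFunctor.comp (AlgSt.overMap jO) (BasedFunctor.comp (AlgSt.overMap a) yU) ≅
      BasedFunctor.comp (AlgSt.overMap a') (BasedFunctor.comp (AlgSt.overMap jV) yU) :=
    whiskerRightIso ((overMapComp jO a).trans ((overMapCongr hj).trans (overMapComp a' jV).symm)) yU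
  have hc : IsClosed (jO.left ⁻¹' (toPt (FibCat.fpFst (BasedFunctor.comp (AlgSt.overMap a) yU) f) ''
      (AlgSt.Points.map (chartFun y f (AlgSt.overMap c) α.symm) ⁻¹' D))) := by
    rw [preimage_toPt_image hX hY jO β]
    exact isClosed_image_over_affine hX hY hqc hft hval a' _ (hD'.preimage _)
  refine ⟨_, ?_, O.ι.isOpenEmbedding.isOpenMap _ hc.isOpen_compl, ⟨⟨w, hwO⟩, hw, rfl⟩⟩
  rintro _ ⟨o, ho, rfl⟩
  exact ho

/-- Liftings at discrete valuation rings after extension give universal closedness. -/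
theorem isUnivClosed_of_liftsDVR (h𝒳 : AlgSt.IsAlgStack Scheme.etalePrecoverage 𝒳)
    (h𝒴 : AlgSt.IsAlgStack Scheme.etalePrecoverage 𝒴)
    (hn : AlgSt.SmoothLocally (fun T => IsLocallyNoetherian T) 𝒴)
    (hqc : AlgSt.IsQuasiCompactMor Scheme.etalePrecoverage f)
    (hft : AlgSt.LocQ (AlgSp.LocP @LocallyOfFiniteType) f) (hval : LiftsDVR f) :
    AlgSt.IsUnivClosed Scheme.etalePrecoverage f := by
  intro 𝒵 hZ g C hC
  have hX := h𝒳.isStack.1
  have hY := h𝒴.isStack.1
  refine isOpen_compl_iff.1 fun T z _ => ?_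
  rw [Set.preimage_compl, preimage_image_fpFst g f z (Iso.refl _) hX hY hZ.isStack.1,
    isOpen_compl_iff]
  exact isClosed_image_of_liftsDVR hX h𝒴 hn hqc hft hval _
    ((closedOnCharts_of_isClosed
      (hasAtlas_fp hZ.isStack.1 hX hY h𝒴.diag g f hZ.atlas h𝒳.atlas) hC).preimage _)

end Reduction

end Groth.AlgStDVR
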