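import Groth.Agent.AlgStDVR.Chart
import Groth.Agent.AlgSp3.ValCriteria
import Mathlib.AlgebraicGeometry.Noetherian
import Mathlib.RingTheory.Adjoin.FG

/-!
# Closed images over affine schemes from closed images over Noetherian affine schemes

A closed set of a base change avoiding the fibre over a point descends to a base change over a
subalgebra of finite type.
-/

set_option autoImplicit false
set_option backward.isDefEq.respectTransparency false
set_option backward.isDefEq.respectTransparency.types false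

universe u

open CategoryTheory CategoryTheory.Limits AlgebraicGeometry Opposite Topology
open Groth.StkBase Groth.AlgStBasic

noncomputable section

namespace Groth.AlgStDVR

variable {S : Scheme.{u}} {V W₀ T : Over S} (a : T ⟶ V) (α₀ : W₀ ⟶ V)

instance [IsAffine V.left] [IsAffine W₀.left] [IsAffine T.left] : IsAffine (top a α₀).left :=
  inferInstanceAs (IsAffine (pullback a.left α₀.left))

theorem isPullback_topMap {T₁ : Over S} (a₁ : T₁ ⟶ V) (c : T ⟶ T₁) (hc : c ≫ a₁ = a) :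
    IsPullback (topMap a α₀ a₁ c hc).left (pr a α₀).left (pr a₁ α₀).left c.left := by
  refine IsPullback.of_right (t := IsPullback.of_hasPullback a₁.left α₀.left |>.flip) ?_
    (congrArg CommaMorphism.left (topLift_pr a₁ α₀ _ _ _))
  have h₁ : (topMap a α₀ a₁ c hc).left ≫ pullback.snd a₁.left α₀.left =
      pullback.snd a.left α₀.left := pullback.lift_snd _ _ _
  have h₂ : c.left ≫ a₁.left = a.left := congrArg CommaMorphism.left hc
  rw [h₁, h₂]
  exact (IsPullback.of_hasPullback a.left α₀.left).flip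

/-- Functions on the fibre product come from finitely many functions on `T` and all on `W₀`. -/
theorem exists_finset_descends [IsAffine V.left] [IsAffine W₀.left] [IsAffine T.left]
    (j : Γ((top a α₀).left, ⊤)) :
    ∃ s : Finset Γ(T.left, ⊤), ∀ (T₁ : Over S) (a₁ : T₁ ⟶ V) (c : T ⟶ T₁) (hc : c ≫ a₁ = a),
      (∀ x ∈ s, x ∈ c.left.appTop.hom.range) → j ∈ (topMap a α₀ a₁ c hc).left.appTop.hom.range := by
  classical
  have po := isPushout_appTop_of_isPullback (IsPullback.of_hasPullback a.left α₀.left)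
  let fs : Γ(T.left, ⊤) ⟶ Γ((top a α₀).left, ⊤) := (pr a α₀).left.appTop
  let sn : Γ(W₀.left, ⊤) ⟶ Γ((top a α₀).left, ⊤) := (prW a α₀).left.appTop
  have hgen : j ∈ Subring.closure (Set.range fs.hom ∪ Set.range sn.hom) := by
    let R' := Subring.closure (Set.range fs.hom ∪ Set.range sn.hom)
    have hpo : IsPushout a.left.appTop α₀.left.appTop fs sn := po
    let ι : CommRingCat.of R' ⟶ Γ((top a α₀).left, ⊤) := CommRingCat.ofHom R'.subtype
    let u₁ : Γ(T.left, ⊤) ⟶ CommRingCat.of R' :=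
      CommRingCat.ofHom (fs.hom.codRestrict R' fun x => Subring.subset_closure (Or.inl ⟨x, rfl⟩))
    let u₂ : Γ(W₀.left, ⊤) ⟶ CommRingCat.of R' :=
      CommRingCat.ofHom (sn.hom.codRestrict R' fun x => Subring.subset_closure (Or.inr ⟨x, rfl⟩))
    have hu₁ : u₁ ≫ ι = fs := rfl
    have hu₂ : u₂ ≫ ι = sn := rfl
    have : Mono ι := ConcreteCategory.mono_of_injective _ Subtype.val_injective
    have hw : a.left.appTop ≫ u₁ = α₀.left.appTop ≫ u₂ :=
      (cancel_mono ι).1 (by rw [Category.assoc, Category.assoc, hu₁, hu₂]; exact hpo.w)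
    have h : hpo.desc u₁ u₂ hw ≫ ι = 𝟙 _ := hpo.hom_ext
      (by rw [IsPushout.inl_desc_assoc, hu₁, Category.comp_id])
      (by rw [IsPushout.inr_desc_assoc, hu₂, Category.comp_id])
    have hj : ι (hpo.desc u₁ u₂ hw j) = j := congr($h j)
    rw [← hj]
    exact (hpo.desc u₁ u₂ hw j).2
  refine Subring.closure_induction (p := fun j _ => ∃ s : Finset Γ(T.left, ⊤),
    ∀ (T₁ : Over S) (a₁ : T₁ ⟶ V) (c : T ⟶ T₁) (hc : c ≫ a₁ = a),
      (∀ x ∈ s, x ∈ c.left.appTop.hom.range) → j ∈ (topMap a α₀ a₁ c hc).left.appTop.hom.range)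
    ?_ ⟨∅, fun _ _ _ _ _ => zero_mem _⟩ ⟨∅, fun _ _ _ _ _ => one_mem _⟩ ?_ ?_ ?_ hgen
  · rintro _ (⟨x, rfl⟩ | ⟨x, rfl⟩)
    · refine ⟨{x}, fun T₁ a₁ c hc h => ?_⟩
      obtain ⟨y, hy⟩ := h x (Finset.mem_singleton_self x)
      refine ⟨(pr a₁ α₀).left.appTop y, ?_⟩
      have e : (topMap a α₀ a₁ c hc).left ≫ (pr a₁ α₀).left = (pr a α₀).left ≫ c.left :=
        congrArg CommaMorphism.left (topLift_pr a₁ α₀ _ _ _)
      have e' := congr($(congrArg Scheme.Hom.appTop e) y)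
      simp only [Scheme.Hom.comp_appTop, CommRingCat.comp_apply] at e'
      exact e'.trans (congrArg (pr a α₀).left.appTop hy)
    · refine ⟨∅, fun T₁ a₁ c hc _ => ⟨(prW a₁ α₀).left.appTop x, ?_⟩⟩
      have e : (topMap a α₀ a₁ c hc).left ≫ (prW a₁ α₀).left = (prW a α₀).left :=
        congrArg CommaMorphism.left (topLift_prW a₁ α₀ _ _ _)
      have e' := congr($(congrArg Scheme.Hom.appTop e) x)
      simp only [Scheme.Hom.comp_appTop, CommRingCat.comp_apply] at e'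
      exact e'
  · rintro x y - - ⟨s, hs⟩ ⟨t, ht⟩
    exact ⟨s ∪ t, fun T₁ a₁ c hc h => add_mem
      (hs T₁ a₁ c hc fun z hz => h z (Finset.mem_union_left _ hz))
      (ht T₁ a₁ c hc fun z hz => h z (Finset.mem_union_right _ hz))⟩
  · rintro x - ⟨s, hs⟩
    exact ⟨s, fun T₁ a₁ c hc h => neg_mem (hs T₁ a₁ c hc h)⟩
  · rintro x y - - ⟨s, hs⟩ ⟨t, ht⟩
    exact ⟨s ∪ t, fun T₁ a₁ c hc h => mul_mem
      (hs T₁ a₁ c hc fun z hz => h z (Finset.mem_union_left _ hz))
      (ht T₁ a₁ c hc fun z hz => h z (Finset.mem_union_right _ hz))⟩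

/-- An affine scheme over a Noetherian one maps to a Noetherian affine one through given functions. -/
theorem exists_noetherian_approx [IsAffine V.left] [IsLocallyNoetherian V.left] [IsAffine T.left]
    (s : Finset Γ(T.left, ⊤)) :
    ∃ (T₁ : Over S) (_ : IsAffine T₁.left) (_ : IsLocallyNoetherian T₁.left) (a₁ : T₁ ⟶ V)
      (c : T ⟶ T₁), c ≫ a₁ = a ∧ ∀ x ∈ s, x ∈ c.left.appTop.hom.range := by
  algebraize [a.left.appTop.hom]
  let A₀ : Subalgebra Γ(V.left, ⊤) Γ(T.left, ⊤) := Algebra.adjoin _ (s : Set Γ(T.left, ⊤))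
  have : IsNoetherianRing Γ(V.left, ⊤) :=
    IsLocallyNoetherian.component_noetherian ⟨⊤, isAffineOpen_top _⟩
  have : IsNoetherianRing A₀ := isNoetherianRing_of_fg (Subalgebra.fg_adjoin_finset s)
  let φ : CommRingCat.of A₀ ⟶ Γ(T.left, ⊤) := CommRingCat.ofHom A₀.val.toRingHom
  let ψ : Γ(V.left, ⊤) ⟶ CommRingCat.of A₀ := CommRingCat.ofHom (algebraMap _ A₀)
  have hψφ : ψ ≫ φ = a.left.appTop := rfl
  have hnat : T.left.isoSpec.hom ≫ Spec.map a.left.appTop = a.left ≫ V.left.isoSpec.hom :=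
    Scheme.isoSpec_hom_naturality a.left
  let T₁ : Over S := Over.mk (Spec.map ψ ≫ V.left.isoSpec.inv ≫ V.hom)
  let a₁ : T₁ ⟶ V := Over.homMk (Spec.map ψ ≫ V.left.isoSpec.inv) (Category.assoc _ _ _)
  have hl : (T.left.isoSpec.hom ≫ Spec.map φ) ≫ Spec.map ψ ≫ V.left.isoSpec.inv = a.left := by
    rw [Category.assoc, ← Spec.map_comp_assoc, hψφ, reassoc_of% hnat, Iso.hom_inv_id,
      Category.comp_id]
  let c : T ⟶ T₁ := Over.homMk (T.left.isoSpec.hom ≫ Spec.map φ) (by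
    show (T.left.isoSpec.hom ≫ Spec.map φ) ≫ Spec.map ψ ≫ V.left.isoSpec.inv ≫ V.hom = T.hom
    rw [← Category.assoc (Spec.map ψ), ← Category.assoc, hl, Over.w a])
  refine ⟨T₁, inferInstanceAs (IsAffine (Spec (CommRingCat.of A₀))),
    inferInstanceAs (IsLocallyNoetherian (Spec (CommRingCat.of A₀))), a₁, c,
    Over.OverMorphism.ext hl, fun x hx => ?_⟩
  refine ⟨(Scheme.ΓSpecIso (CommRingCat.of A₀)).inv ⟨x, Algebra.subset_adjoin hx⟩, ?_⟩
  show ((Scheme.ΓSpecIso (CommRingCat.of A₀)).inv ≫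
    (T.left.isoSpec.hom ≫ Spec.map φ).appTop) ⟨x, Algebra.subset_adjoin hx⟩ = x
  have e : (Scheme.ΓSpecIso (CommRingCat.of A₀)).inv ≫
      (T.left.isoSpec.hom ≫ Spec.map φ).appTop = φ := by
    simp [Scheme.isoSpec]
  rw [e]
  rfl

section Closed

variable {𝒬 : AlgSt.Cat S} {q : 𝒬 ⥤ᵇ FibCat.overCat V} {w₀ : FibCat.overCat W₀ ⥤ᵇ 𝒬}
  (e₀ : BasedFunctor.comp w₀ q ≅ AlgSt.overMap α₀)

/-- Images of sets closed on charts are closed. -/
def ImClosed (q : 𝒬 ⥤ᵇ FibCat.overCat V) {T : Over S} (a : T ⟶ V) : Prop :=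
  ∀ D : Set (AlgSt.Points (FibCat.fp (AlgSt.overMap a) q)), ClosedOnCharts D →
    IsClosed (toPt (FibCat.fpFst (AlgSt.overMap a) q) '' D)

include e₀ in
/-- Closedness of images over affine schemes follows from the Noetherian case. -/
theorem imClosed_of_noetherian [IsAffine V.left] [IsLocallyNoetherian V.left] [IsAffine W₀.left]
    (hQ : FibCat.IsFibGrpd 𝒬.p) (hw : AlgSt.RepByAlgSpWith (AlgSp.LocP @Smooth) w₀)
    (hws : AlgSt.RepByAlgSpWith AlgSp.IsSurjectiveMor w₀)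
    (H : ∀ (T₁ : Over S) [IsAffine T₁.left] [IsLocallyNoetherian T₁.left] (a₁ : T₁ ⟶ V),
      ImClosed q a₁)
    [IsAffine T.left] : ImClosed q a := by
  classical
  intro D hD
  let C' := AlgSt.Points.ofChart (chart a α₀ e₀) ⁻¹' D
  have hC' : IsClosed C' := hD _ _
  rw [← isOpen_compl_iff, isOpen_iff_forall_mem_open]
  intro z' hz'
  have : QuasiCompact (pr a α₀).left := inferInstanceAs (QuasiCompact (pullback.fst a.left α₀.left))
  have hfib : ∀ v, (pr a α₀).left v = z' → v ∉ C' := fun v hv hmem =>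
    hz' ((image_toPt a α₀ e₀ hQ hws D).symm ▸ ⟨v, hmem, hv⟩)
  obtain ⟨J, hJ⟩ := ((pr a α₀).left.isCompact_preimage_singleton z').elim_finite_subcover
    (fun j : {j : Γ((top a α₀).left, ⊤) // ((top a α₀).left.basicOpen j : Set _) ⊆ C'ᶜ} =>
      ((top a α₀).left.basicOpen j.1 : Set _))
    (fun j => ((top a α₀).left.basicOpen j.1).isOpen) (fun v hv => by
      obtain ⟨_, ⟨j, rfl⟩, hvj, hj⟩ := TopologicalSpace.Opens.isBasis_iff_nbhd.1
        (isBasis_basicOpen (top a α₀).left) (U := ⟨C'ᶜ, hC'.isOpen_compl⟩) (hfib v hv)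
      exact Set.mem_iUnion.2 ⟨⟨j, hj⟩, hvj⟩)
  choose s hs using fun j : Γ((top a α₀).left, ⊤) => exists_finset_descends a α₀ j
  obtain ⟨T₁, _, _, a₁, c, hc, hrange⟩ :=
    exists_noetherian_approx a (J.biUnion fun j => s j.1)
  choose! j₁ hj₁ using fun j (hj : j ∈ J) =>
    hs j.1 T₁ a₁ c hc fun x hx => hrange x (Finset.mem_biUnion.2 ⟨j, hj, hx⟩)
  have hb : ∀ j ∈ J, (topMap a α₀ a₁ c hc).left ⁻¹ᵁ (top a₁ α₀).left.basicOpen (j₁ j) =
      (top a α₀).left.basicOpen j.1 := fun j hj => by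
    rw [Scheme.preimage_basicOpen_top]
    exact congrArg _ (hj₁ j hj)
  let O₁ : Set ↥(top a₁ α₀).left :=
    ⋃ j ∈ J, ((top a₁ α₀).left.basicOpen (j₁ j) : Set _)
  have hO₁ : IsOpen O₁ := isOpen_biUnion fun j _ => ((top a₁ α₀).left.basicOpen _).isOpen
  have hQ₁ := isFibGrpd_fp (F := AlgSt.overMap a₁) (G := q) (isFibGrpd_overCat T₁) hQ
    (isFibGrpd_overCat V)
  let D₁ := (AlgSt.Points.ofChart (chart a₁ α₀ e₀) '' O₁)ᶜ
  have hD₁ : ClosedOnCharts D₁ :=
    closedOnCharts_of_isClosed (hasAtlas_fp_overMap a₁ α₀ e₀ hw hws)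
      (isClosed_compl_iff.2
        (isOpenMap_ofChart_of_smooth hQ₁ (repWith_chart a₁ α₀ e₀ hw) _ hO₁))
  refine ⟨c.left ⁻¹' (toPt (FibCat.fpFst (AlgSt.overMap a₁) q) '' D₁)ᶜ, ?_,
    (H T₁ a₁ D₁ hD₁).isOpen_compl.preimage c.left.continuous, ?_⟩
  · rintro t ht ⟨p, hp, rfl⟩
    refine ht ⟨_, ?_, toPt_changeBase a a₁ c hc p⟩
    rintro ⟨v₁, hv₁, e⟩
    obtain ⟨v, rfl, hv⟩ := exists_chart_lift a α₀ e₀ a₁ c hc hQ p v₁ e.symm
    obtain ⟨j, hjJ, hvj⟩ := Set.mem_iUnion₂.1 hv₁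
    have : v ∈ (topMap a α₀ a₁ c hc).left ⁻¹ᵁ (top a₁ α₀).left.basicOpen (j₁ j) := hvj
    rw [hb j hjJ] at this
    exact j.2 this (show AlgSt.Points.ofChart (chart a α₀ e₀) v ∈ D by rw [hv]; exact hp)
  · intro hmem
    rw [image_toPt a₁ α₀ e₀ hQ hws] at hmem
    obtain ⟨v₁, hv₁, e⟩ := hmem
    obtain ⟨v, rfl, hv⟩ := Scheme.exists_preimage_of_isPullback (isPullback_topMap a α₀ a₁ c hc) v₁ z' e
    obtain ⟨j, hjJ, hvj⟩ := Set.mem_iUnion₂.1 (hJ hv)
    refine hv₁ ⟨_, Set.mem_biUnion hjJ ?_, rfl⟩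
    rw [SetLike.mem_coe, ← hb j hjJ] at hvj
    exact hvj

end Closed

end Groth.AlgStDVR
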