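import Groth.Agent.AlgStBasic.StQc
import Groth.Agent.AlgStBasic.DiagOfAtlas

/-!
# Points of charts into fibre products over slices

Tools for reading subsets of the points of a 2-fibre product on scheme charts, valid for stacks for
any topology: closedness on charts, comparison of functors into slices.
-/

set_option autoImplicit false
set_option backward.isDefEq.respectTransparency false
set_option backward.isDefEq.respectTransparency.types false

universe u

open CategoryTheory CategoryTheory.Limits AlgebraicGeometry Opposite Topology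
open Groth.StkBase Groth.AlgStBasic

noncomputable section

namespace Groth.AlgStDVR

variable {S : Scheme.{u}} {𝒲 𝒳 𝒴 𝒵 : AlgSt.Cat S}

/-- The preimage of a set of points under every scheme chart is closed. -/
def ClosedOnCharts (C : Set (AlgSt.Points 𝒳)) : Prop :=
  ∀ (U : Over S) (k : FibCat.overCat U ⥤ᵇ 𝒳), IsClosed (AlgSt.Points.ofChart k ⁻¹' C)

theorem ofChart_comp {T : Over S} (k : FibCat.overCat T ⥤ᵇ 𝒳) (h : 𝒳 ⥤ᵇ 𝒴) (t : ↥T.left) :
    AlgSt.Points.ofChart (BasedFunctor.comp k h) t =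
      AlgSt.Points.map h (AlgSt.Points.ofChart k t) := by
  rw [ofChart_eq_map, map_comp, ← ofChart_eq_map]

theorem ClosedOnCharts.preimage {C : Set (AlgSt.Points 𝒴)} (hC : ClosedOnCharts C) (h : 𝒳 ⥤ᵇ 𝒴) :
    ClosedOnCharts (AlgSt.Points.map h ⁻¹' C) := fun U k => by
  have : AlgSt.Points.ofChart k ⁻¹' (AlgSt.Points.map h ⁻¹' C) =
      AlgSt.Points.ofChart (BasedFunctor.comp k h) ⁻¹' C :=
    Set.ext fun t => by simp only [Set.mem_preimage, ofChart_comp]
  exact this.symm ▸ hC U (BasedFunctor.comp k h)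

/-- Every chart is continuous on points as soon as there is an atlas. -/
theorem continuous_ofChart_of_atlas (hat : AlgSt.HasAtlas (AlgSp.LocP @Smooth) 𝒳) {T : Over S}
    (y : FibCat.overCat T ⥤ᵇ 𝒳) : Continuous (AlgSt.Points.ofChart y) := by
  obtain ⟨U, x, hx, hxs⟩ := hat
  obtain ⟨W, c, a, hc, hcs, ⟨α⟩⟩ := exists_smooth_cover_lift hx hxs y
  refine continuous_def.2 fun O hO => ?_
  have hq : IsQuotientMap c.left :=
    (c.left.isOpenMap).isQuotientMap c.left.continuous hcs.surj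
  rw [← hq.isCoinducing.isOpen_preimage]
  have e : c.left ⁻¹' (AlgSt.Points.ofChart y ⁻¹' O) =
      a.left ⁻¹' (AlgSt.Points.ofChart x ⁻¹' O) := by
    ext w
    simp only [Set.mem_preimage]
    rw [← ofChart_overMap, ← ofChart_overMap, ofChart_eq_of_iso α]
  rw [e]
  exact (hO U x hx).preimage a.left.continuous

theorem closedOnCharts_of_isClosed (hat : AlgSt.HasAtlas (AlgSp.LocP @Smooth) 𝒳)
    {C : Set (AlgSt.Points 𝒳)} (hC : IsClosed C) : ClosedOnCharts C :=
  fun _ k => hC.preimage (continuous_ofChart_of_atlas hat k)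

section OverCat

variable {T T' T'' : Over S}

theorem overCat_ext {a b : (FibCat.overCat T).obj} {f g : a ⟶ b}
    (hf : IsVert (FibCat.overCat T).p f) (hg : IsVert (FibCat.overCat T).p g) : f = g :=
  Over.OverMorphism.ext (hf.map_eq.trans hg.map_eq.symm)

/-- Functors into a fibre product over a slice are isomorphic when their components are. -/
def fpIsoMkOver {F : 𝒳 ⥤ᵇ FibCat.overCat T} {G : 𝒴 ⥤ᵇ FibCat.overCat T}
    {H K : 𝒲 ⥤ᵇ FibCat.fp F G}
    (α : BasedFunctor.comp H (FibCat.fpFst F G) ≅ BasedFunctor.comp K (FibCat.fpFst F G))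
    (β : BasedFunctor.comp H (FibCat.fpSnd F G) ≅ BasedFunctor.comp K (FibCat.fpSnd F G)) :
    H ≅ K :=
  fpIsoMk α β fun _ => overCat_ext ((isVert_map (isVert_isoApp _ _)).comp (fp_isVert _))
    ((fp_isVert _).comp (isVert_map (isVert_isoApp _ _)))

/-- Composition of morphisms of slices. -/
def overMapComp (c : T ⟶ T') (d : T' ⟶ T'') :
    BasedFunctor.comp (AlgSt.overMap c) (AlgSt.overMap d) ≅ AlgSt.overMap (c ≫ d) :=
  (nonempty_iso_overMap_comp (rfl : c ≫ d = c ≫ d)).some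

/-- Equal morphisms of schemes give isomorphic functors. -/
def overMapCongr {a b : T ⟶ T'} (h : a = b) : AlgSt.overMap a ≅ AlgSt.overMap b :=
  eqToIso (congrArg _ h)

theorem eq_of_overMap_iso {a b : T ⟶ T'} (α : AlgSt.overMap a ≅ AlgSt.overMap b) : a = b := by
  obtain ⟨ψ, hψ⟩ := (nonempty_overIso_iff (isFibGrpd_overCat T') _ _).1 ⟨α⟩
  have h1 : ψ.left ≫ 𝟙 T ≫ b = 𝟙 T ≫ a := Over.w ψ
  have h2 : ψ.left = 𝟙 T := hψ.map_eq
  rw [h2] at h1
  exact (Category.id_comp a).symm.trans (h1.symm.trans ((Category.id_comp _).trans (Category.id_comp b)))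

/-- The scheme point under a point over a slice. -/
def toPt (π : 𝒳 ⥤ᵇ FibCat.overCat T) (p : AlgSt.Points 𝒳) : ↥T.left :=
  ptToScheme T (AlgSt.Points.map π p)

theorem toPt_ofChart {π : 𝒳 ⥤ᵇ FibCat.overCat T} {k : FibCat.overCat T' ⥤ᵇ 𝒳} {b : T' ⟶ T}
    (α : BasedFunctor.comp k π ≅ AlgSt.overMap b) (t : ↥T'.left) :
    toPt π (AlgSt.Points.ofChart k t) = b.left t := by
  have h : AlgSt.Points.map π (AlgSt.Points.ofChart k t) =
      AlgSt.Points.ofChart (BasedFunctor.id _) (b.left t) := by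
    rw [← ofChart_comp, ofChart_eq_of_iso α]
    exact ofChart_overMap b (BasedFunctor.id _) t
  rw [toPt, h, ptToScheme_ofChart_id]

theorem map_eq_ofChart (π : 𝒳 ⥤ᵇ FibCat.overCat T) (p : AlgSt.Points 𝒳) :
    AlgSt.Points.map π p = AlgSt.Points.ofChart (BasedFunctor.id _) (toPt π p) :=
  (ofChart_id_ptToScheme _).symm

theorem toPt_map (h : 𝒳 ⥤ᵇ 𝒴) (π : 𝒴 ⥤ᵇ FibCat.overCat T) (p : AlgSt.Points 𝒳) :
    toPt π (AlgSt.Points.map h p) = toPt (BasedFunctor.comp h π) p := by
  rw [toPt, toPt, map_comp]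

theorem isAlgStack_etale_overCat (V : Over S) :
    AlgSt.IsAlgStack Scheme.etalePrecoverage (FibCat.overCat V : AlgSt.Cat S) :=
  isAlgStack_etale_of_hasAtlas (isStack_etale_of_repByAlgSp (repByAlgSp_overCat V))
    (hasAtlas_of_repByAlgSp (repByAlgSp_overCat V))

end OverCat

section Preimage

variable {T : Over S} (g : 𝒵 ⥤ᵇ 𝒴) (f : 𝒳 ⥤ᵇ 𝒴) (z : FibCat.overCat T ⥤ᵇ 𝒵)
  {y : FibCat.overCat T ⥤ᵇ 𝒴} (β : BasedFunctor.comp z g ≅ y)

/-- The comparison of the base change along a chart with the fibre product. -/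
def chartFun : FibCat.fp y f ⥤ᵇ FibCat.fp g f :=
  FibCat.fpLift (BasedFunctor.comp (FibCat.fpFst y f) z) (FibCat.fpSnd y f)
    ((whiskerLeftIso (FibCat.fpFst y f) β).trans (FibCat.fpIso y f))

/-- Images of the base change, read on a chart. -/
theorem preimage_image_fpFst (hX : FibCat.IsFibGrpd 𝒳.p) (hY : FibCat.IsFibGrpd 𝒴.p)
    (hZ : FibCat.IsFibGrpd 𝒵.p) (C : Set (AlgSt.Points (FibCat.fp g f))) :
    AlgSt.Points.ofChart z ⁻¹' (AlgSt.Points.map (FibCat.fpFst g f) '' C) =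
      toPt (FibCat.fpFst y f) '' (AlgSt.Points.map (chartFun g f z β) ⁻¹' C) := by
  ext t
  constructor
  · rintro ⟨c, hc, e⟩
    obtain ⟨w, hw₁, hw₂⟩ := exists_points_fp (isFibGrpd_fp hZ hX hY) hZ (isFibGrpd_overCat T)
      (FibCat.fpFst g f) z (AlgSt.Points.ofChart (BasedFunctor.id _) t) c
      (by rw [← ofChart_eq_map]; exact e.symm)
    let Ψ : FibCat.fp z (FibCat.fpFst g f) ⥤ᵇ FibCat.fp y f :=
      BasedFunctor.comp (fpPaste z g f) (fpCongr β (Iso.refl f))
    let ε : BasedFunctor.comp Ψ (chartFun g f z β) ≅ FibCat.fpSnd z (FibCat.fpFst g f) :=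
      fpIsoMk (FibCat.fpIso z (FibCat.fpFst g f)) (Iso.refl _) fun x => by
        simp [Ψ, chartFun, fpPaste, fpCongr]
    refine ⟨AlgSt.Points.map Ψ w, ?_, ?_⟩
    · rw [Set.mem_preimage, ← map_comp, congrFun (map_eq_of_iso ε) w, hw₂]
      exact hc
    · rw [toPt_map]
      show ptToScheme T (AlgSt.Points.map (FibCat.fpFst z (FibCat.fpFst g f)) w) = t
      rw [hw₁, ptToScheme_ofChart_id]
  · rintro ⟨p, hp, rfl⟩
    refine ⟨_, hp, ?_⟩
    rw [ofChart_eq_map z, ← map_eq_ofChart, ← map_comp, ← map_comp]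
    rfl

end Preimage

end Groth.AlgStDVR
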