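import Groth.Agent.AlgStDVR.Closed
import Groth.Agent.SchemeMorphisms.Points
import Groth.Agent.AlgSpBasic.Compact
import Mathlib.RingTheory.PowerSeries.Inverse

/-!
# Specializations of points of algebraic stacks realised by discrete valuation rings
-/

set_option autoImplicit false
set_option backward.isDefEq.respectTransparency false
set_option backward.isDefEq.respectTransparency.types false

universe u

open CategoryTheory CategoryTheory.Limits AlgebraicGeometry Opposite Topology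
open Groth.StkBase Groth.AlgStBasic Groth.AlgSpBasic

noncomputable section

namespace Groth.AlgStDVR

variable {S : Scheme.{u}} {𝒳 𝒴 : AlgSt.Cat S}

/-- A fibre of a chart from an affine scheme is the image of an affine scheme. -/
theorem exists_affine_fibre [QuasiSeparatedSpace S] (hX : FibCat.IsFibGrpd 𝒳.p)
    (hqs : AlgSt.IsQuasiSeparatedOver 𝒳) {W₀ : Over S} [IsAffine W₀.left]
    (g : FibCat.overCat W₀ ⥤ᵇ 𝒳) (x : AlgSt.Points 𝒳) :
    ∃ (W₁ : Over S) (_ : IsAffine W₁.left) (j : W₁ ⟶ W₀),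
      Set.range j.left = AlgSt.Points.ofChart g ⁻¹' {x} := by
  obtain ⟨K, _, k, t₀, ht₀, hk⟩ := exists_chart_through hX x
  let j₁ : K ⨯ W₀ ⟶ K := prod.fst
  let j₂ : K ⨯ W₀ ⟶ W₀ := prod.snd
  let y : FibCat.overCat (K ⨯ W₀) ⥤ᵇ FibCat.fp (FibCat.toSelf 𝒳) (FibCat.toSelf 𝒳) :=
    FibCat.fpLift (BasedFunctor.comp (AlgSt.overMap j₁) k) (BasedFunctor.comp (AlgSt.overMap j₂) g)
      (selfIso _ _)
  obtain ⟨F, e, he, hq⟩ := hqs (K ⨯ W₀) y
  have : CompactSpace ↥(K ⨯ W₀).left :=
    (Scheme.homeoOfIso (Over.prodLeftIsoPullback K W₀)).symm.compactSpace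
  have hF : AlgSp.IsQuasiCompactSp F.obj :=
    hq.1 (AlgSp.IsAlgSpace.yon_obj _) ((isQuasiCompactSp_yon_iff _).2 inferInstance) (𝟙 _) (𝟙 _) _
      IsPullback.of_id_fst
  obtain ⟨W₁, w₁, hW₁, -, hw₁s⟩ := Groth.AlgSpBasic.exists_affine_chart F.property hF
  let π : FibCat.overCat W₁ ⥤ᵇ FibCat.fp y (FibCat.diag (FibCat.toSelf 𝒳)) :=
    BasedFunctor.comp (overMapOf w₁.hom) e
  obtain ⟨c, ⟨γ⟩⟩ := exists_iso_overMap (BasedFunctor.comp π (FibCat.fpFst y _))
  refine ⟨W₁, hW₁, c ≫ j₂, Set.ext fun w => ⟨?_, fun hw => ?_⟩⟩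
  · rintro ⟨t, rfl⟩
    rw [Set.mem_preimage, Set.mem_singleton_iff]
    show AlgSt.Points.ofChart g (j₂.left (c.left t)) = x
    let ε := (whiskerRightIso γ.symm y).trans
      (whiskerLeftIso π (FibCat.fpIso y (FibCat.diag (FibCat.toSelf 𝒳))))
    have ε₁ : BasedFunctor.comp (AlgSt.overMap c) (BasedFunctor.comp (AlgSt.overMap j₁) k) ≅
        BasedFunctor.comp π (FibCat.fpSnd y _) := whiskerRightIso ε (FibCat.fpFst _ _)
    have ε₂ : BasedFunctor.comp (AlgSt.overMap c) (BasedFunctor.comp (AlgSt.overMap j₂) g) ≅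
        BasedFunctor.comp π (FibCat.fpSnd y _) := whiskerRightIso ε (FibCat.fpSnd _ _)
    rw [← ofChart_overMap, ← ofChart_overMap, ofChart_eq_of_iso ε₂, ← ofChart_eq_of_iso ε₁,
      ofChart_overMap, ofChart_overMap, ofChart_eq_map, hk]
  · have hW₀ := isFibGrpd_overCat (C := Over S) W₀
    have hK := isFibGrpd_overCat (C := Over S) K
    obtain ⟨z, -, hz₂⟩ := exists_points_fp hW₀ hX hK g k
      (AlgSt.Points.ofChart (BasedFunctor.id _) t₀) (AlgSt.Points.ofChart (BasedFunctor.id _) w)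
      (by rw [← ofChart_eq_map, ← ofChart_eq_map, ht₀]; exact hw.symm)
    obtain ⟨M, -, l, t, rfl, -⟩ := exists_chart_through (isFibGrpd_fp hK hW₀ hX) z
    obtain ⟨b₁, ⟨β₁⟩⟩ := exists_iso_overMap (BasedFunctor.comp l (FibCat.fpFst k g))
    obtain ⟨b₂, ⟨β₂⟩⟩ := exists_iso_overMap (BasedFunctor.comp l (FibCat.fpSnd k g))
    let b : M ⟶ K ⨯ W₀ := prod.lift b₁ b₂
    let h := BasedFunctor.comp l (BasedFunctor.comp (FibCat.fpFst k g) k)
    let L : FibCat.overCat M ⥤ᵇ FibCat.fp y (FibCat.diag (FibCat.toSelf 𝒳)) :=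
      FibCat.fpLift (AlgSt.overMap b) h
        (fpIsoMk
          (whiskerRightIso ((overMapComp b j₁).trans ((overMapCongr (prod.lift_fst b₁ b₂)).trans
            β₁.symm)) k)
          ((whiskerRightIso ((overMapComp b j₂).trans ((overMapCongr (prod.lift_snd b₁ b₂)).trans
            β₂.symm)) g).trans (whiskerLeftIso l (FibCat.fpIso k g).symm))
          fun _ => self_ext ((isVert_map (isVert_isoApp _ _)).comp (fp_isVert _))
            ((fp_isVert _).comp (isVert_map (isVert_isoApp _ _))))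
    obtain ⟨v, hv⟩ := (bijective_map_of_isEquivOver he).2 (AlgSt.Points.ofChart L t)
    obtain ⟨v', rfl⟩ := bijective_spPt.2 v
    obtain ⟨t₁, rfl⟩ := surjective_ofPt_of_repWith hw₁s v'
    refine ⟨t₁, (bijective_ofChart_id (T := W₀)).1 ?_⟩
    rw [← hz₂, ← ofChart_comp, ofChart_eq_of_iso β₂]
    refine Eq.trans ?_ (ofChart_overMap b₂ (BasedFunctor.id _) t).symm
    show AlgSt.Points.ofChart (BasedFunctor.id _) (j₂.left (c.left t₁)) = _
    have hcb : c.left t₁ = b.left t := by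
      rw [← toPt_ofChart γ t₁, ← toPt_ofChart (π := FibCat.fpFst y (FibCat.diag (FibCat.toSelf 𝒳)))
        (k := L) (b := b) (Iso.refl _) t, ← hv]
      congr 1
    rw [hcb]
    exact congrArg _ (congrArg (fun q : M ⟶ W₀ => q.left t) (prod.lift_snd b₁ b₂))

/-- A discrete valuation ring over a specialisation, the trivial one included. -/
theorem exists_dvr_through {U Y : Scheme.{u}} [IsLocallyNoetherian Y] (p : U ⟶ Y)
    [LocallyOfFiniteType p] (w : U) (v : Y) (hsp : p w ⤳ v) :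
    ∃ (A : Type u) (_ : CommRing A) (_ : IsDomain A) (_ : IsDiscreteValuationRing A)
      (g : Spec (CommRingCat.of A) ⟶ Y) (k : Spec (CommRingCat.of (FractionRing A)) ⟶ U),
      g (IsLocalRing.closedPoint A) = v ∧ (∀ z, k z = w) ∧
        k ≫ p = Spec.map (CommRingCat.ofHom (algebraMap A (FractionRing A))) ≫ g := by
  by_cases hne : v = p w
  · let c : Spec (CommRingCat.of (PowerSeries (U.residueField w))) ⟶ U :=
      Spec.map (CommRingCat.ofHom (PowerSeries.C : U.residueField w →+* _)) ≫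
        U.fromSpecResidueField w
    have hc : ∀ z, c z = w := fun z => by
      simp only [c, Scheme.Hom.comp_apply]
      exact Scheme.fromSpecResidueField_apply w _
    let q : Spec (CommRingCat.of (FractionRing (PowerSeries (U.residueField w)))) ⟶
        Spec (CommRingCat.of (PowerSeries (U.residueField w))) :=
      Spec.map (CommRingCat.ofHom
        (algebraMap (PowerSeries (U.residueField w)) (FractionRing (PowerSeries (U.residueField w)))))
    refine ⟨PowerSeries (U.residueField w), inferInstance, inferInstance, inferInstance,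
      c ≫ p, q ≫ c, ?_, fun z => ?_, Category.assoc q c p⟩
    · rw [Scheme.Hom.comp_apply, hc]
      exact hne.symm
    · rw [Scheme.Hom.comp_apply]
      exact hc _
  · obtain ⟨A, i₁, i₂, i₃, e, -, g, hgc, hg⟩ := Groth.Limits.exists_dvr_square p w v hsp hne
    exact ⟨A, i₁, i₂, i₃, g, Spec.map e ≫ U.fromSpecResidueField w, hgc,
      fun z => Scheme.fromSpecResidueField_apply w _, hg.symm⟩

/-- A specialisation of the image of a point is realised by a discrete valuation ring. -/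
theorem exists_dvr_realizing [QuasiSeparatedSpace S] {f : 𝒳 ⥤ᵇ 𝒴} (hX : FibCat.IsFibGrpd 𝒳.p)
    (h𝒴 : AlgSt.IsAlgStack Scheme.etalePrecoverage 𝒴) (hqs : AlgSt.IsQuasiSeparatedOver 𝒳)
    (hn : AlgSt.SmoothLocally (fun T => IsLocallyNoetherian T) 𝒴)
    (hft : AlgSt.LocQ (AlgSp.LocP @LocallyOfFiniteType) f)
    (hqc : AlgSt.IsQuasiCompactMor Scheme.etalePrecoverage f)
    (x : AlgSt.Points 𝒳) (y₀ : AlgSt.Points 𝒴) (hsp : AlgSt.Points.map f x ⤳ y₀) :
    ∃ (R : Type u) (_ : CommRing R) (_ : IsDomain R) (_ : IsDiscreteValuationRing R)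
      (sR : Spec (CommRingCat.of R) ⟶ S)
      (a : FibCat.overCat
        (Over.mk (Spec.map (CommRingCat.ofHom (algebraMap R (FractionRing R))) ≫ sR)) ⥤ᵇ 𝒳)
      (b : FibCat.overCat (Over.mk sR) ⥤ᵇ 𝒴),
      Nonempty (BasedFunctor.comp a f ≅
        BasedFunctor.comp (AlgSt.overMap (Over.homMk
          (Spec.map (CommRingCat.ofHom (algebraMap R (FractionRing R)))) rfl :
          Over.mk (Spec.map (CommRingCat.ofHom (algebraMap R (FractionRing R))) ≫ sR) ⟶
            Over.mk sR)) b) ∧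
      (∀ p, AlgSt.Points.ofChart a p = x) ∧
      AlgSt.Points.ofChart b (IsLocalRing.closedPoint R) = y₀ := by
  have hY := h𝒴.isStack.1
  obtain ⟨U, yU, hyU, hyUs⟩ := h𝒴.atlas
  have : IsLocallyNoetherian U.left := hn U yU hyU
  obtain ⟨u, rfl⟩ := surjective_ofChart hY hyUs y₀
  obtain ⟨V₀, hV₀, huV, -⟩ := exists_isAffineOpen_mem_and_subset (X := U.left) (x := u)
    (U := ⊤) trivial
  let V : Over S := Over.mk (V₀.ι ≫ U.hom)
  have : IsAffine V.left := hV₀
  have : IsLocallyNoetherian V.left := isLocallyNoetherian_of_isOpenImmersion V₀.ι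
  let jV : V ⟶ U := Over.homMk V₀.ι rfl
  let yV := BasedFunctor.comp (AlgSt.overMap jV) yU
  let v : ↥V.left := ⟨u, huV⟩
  have hv : AlgSt.Points.ofChart yV v = AlgSt.Points.ofChart yU u := ofChart_overMap jV yU v
  have hopen : IsOpenMap (AlgSt.Points.ofChart yV) := by
    intro O hO
    have : AlgSt.Points.ofChart yV '' O = AlgSt.Points.ofChart yU '' (jV.left '' O) := by
      rw [Set.image_image]
      exact Set.image_congr fun t _ => ofChart_overMap jV yU t
    rw [this]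
    exact isOpenMap_ofChart_of_smooth hY hyU _ (V₀.ι.isOpenEmbedding.isOpenMap _ hO)
  obtain ⟨W₀, _, w₀, α₀, e₀, -, hws, _⟩ := exists_affine_chart hX hY hqc hft V yV
  let g := BasedFunctor.comp w₀ (FibCat.fpSnd yV f)
  obtain ⟨W₁, _, j, hj⟩ := exists_affine_fibre hX hqs g x
  have hgf : BasedFunctor.comp g f ≅ BasedFunctor.comp (AlgSt.overMap α₀) yV :=
    (whiskerLeftIso w₀ (FibCat.fpIso yV f).symm).trans (whiskerRightIso e₀ yV)
  have hvc : v ∈ closure (Set.range (j.left ≫ α₀.left)) := by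
    refine mem_closure_iff.2 fun O hO hvO => ?_
    obtain ⟨n, hn, hnx⟩ : AlgSt.Points.map f x ∈ AlgSt.Points.ofChart yV '' O :=
      hsp.mem_open (hopen O hO) ⟨v, hvO, hv⟩
    obtain ⟨z, hz₁, hz₂⟩ := exists_points_fp hX hY (isFibGrpd_overCat V) f yV
      (AlgSt.Points.ofChart (BasedFunctor.id _) n) x (by rw [← ofChart_eq_map, hnx])
    obtain ⟨w, rfl⟩ := surjective_ofChart (isFibGrpd_fp (isFibGrpd_overCat V) hX hY) hws z
    obtain ⟨t, ht⟩ : w ∈ Set.range j.left := by
      rw [hj]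
      exact (ofChart_comp w₀ (FibCat.fpSnd yV f) w).trans hz₂
    refine ⟨n, hn, t, ?_⟩
    rw [Scheme.Hom.comp_apply, ht, ← toPt_ofChart e₀ w, toPt, hz₁, ptToScheme_ofChart_id]
  have : QuasiCompact (j.left ≫ α₀.left) := (quasiCompact_iff_compactSpace _).2 inferInstance
  obtain ⟨t, ht⟩ := Groth.SchemeMorphisms.exists_specializes_of_mem_closure_range _ hvc
  rw [Scheme.Hom.comp_apply] at ht
  have hwx : AlgSt.Points.ofChart g (j.left t) = x :=
    show j.left t ∈ AlgSt.Points.ofChart g ⁻¹' {x} from hj ▸ ⟨t, rfl⟩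
  obtain ⟨A, i₁, i₂, i₃, gA, kA, hgc, hkw, hk⟩ := exists_dvr_through α₀.left (j.left t) v ht
  let sR : Spec (CommRingCat.of A) ⟶ S := gA ≫ V.hom
  let gO : Over.mk sR ⟶ V := Over.homMk gA rfl
  let kO : Over.mk (Spec.map (CommRingCat.ofHom (algebraMap A (FractionRing A))) ≫ sR) ⟶ W₀ :=
    Over.homMk kA (by
      show kA ≫ W₀.hom = Spec.map _ ≫ gA ≫ V.hom
      rw [← Over.w α₀, reassoc_of% hk])
  have ecomm : kO ≫ α₀ = Over.homMk
      (Spec.map (CommRingCat.ofHom (algebraMap A (FractionRing A)))) rfl ≫ gO :=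
    Over.OverMorphism.ext hk
  refine ⟨A, i₁, i₂, i₃, sR, BasedFunctor.comp (AlgSt.overMap kO) g,
    BasedFunctor.comp (AlgSt.overMap gO) yV, ⟨?_⟩, fun p => ?_, ?_⟩
  · exact (whiskerLeftIso (AlgSt.overMap kO) hgf).trans
      (whiskerRightIso ((overMapComp kO α₀).trans ((overMapCongr ecomm).trans
        (overMapComp _ gO).symm)) yV)
  · rw [ofChart_overMap]
    exact (congrArg (AlgSt.Points.ofChart g) (hkw p)).trans hwx
  · rw [ofChart_overMap]
    exact (congrArg (AlgSt.Points.ofChart yV) hgc).trans hv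

end Groth.AlgStDVR
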